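/-
Long root structure: a translation centralising the second centre.
-/
import Cfsg.Agent.Rd.B1
set_option autoImplicit false
set_option linter.unusedSectionVars false

namespace CF.Rd
open Subgroup Cfsg CF.BG CF.Sig CF.Ab2
open scoped commutatorElement

variable {G : Type*} [Group G] [Finite G] {F : Type*} [Field F] {L U Y Q Y2 P L2 : Subgroup G} {z b e : F → G}
  {w y₀ c₀ s₀ g x n t : G} {c d : F}

namespace R0
variable (h : R0 L U Y Q Y2 P L2 z b e w y₀ c₀ s₀)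
include h

theorem act (a : g ∈ 𝐍 U) (k : g ∈ 𝐍 Q) : ∃ H I φ f : F → F, (∀ c, g * z c * g⁻¹ = z (H c)) ∧
    (∀ c, g * b c * g⁻¹ = z (φ c) * b (I c)) ∧ ∀ c d, H (c * d) = f c * I d := by
  choose H hH using fun c => h.mZ.1 (conj_mem_of_norm (h.nZ k) (rg_mem z c))
  choose φ I hI using fun c => h.mV.1 (conj_mem_of_norm (h.nV a k) (mem_sup_right (rg_mem b c)))
  choose f hf using fun c => h.ue _ (conj_mem_of_norm a (h.QU (h.eQ c)))
  refine ⟨H, I, φ, f, fun c => (hH c).symm, fun c => (hI c).symm, fun c d => h.zinj' ?_⟩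
  rw [hH, ← h.eb, cj_comm', ← hI, h.czr (h.Uz (conj_mem_of_norm a (h.QU (h.eQ c)))), hf, fix_of (h.qz (h.zQ _) _)]

theorem lin (a : n ∈ 𝐍 L) (k : n ∈ 𝐂 (Rg z)) {ψ : F → F} (i : ∀ c, n * b c * n⁻¹ = z (ψ c) * b c) (c : F) :
    ψ c = ψ 1 * c := by
  have j : ∀ c, e (ψ 1) * n * b c * (e (ψ 1) * n)⁻¹ = z (ψ c + ψ 1 * c) * b c := fun c => by
    rw [mul_inv_rev, mul_assoc (e _), ← mul_assoc, mul_assoc (e _), i, ← conj_mul, h.ebc, fix_of (h.ez _ _), h.za, mul_assoc]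
  have l : w⁻¹ * (e (ψ 1) * n) * w ∈ 𝐍 (Rg z) := h.nZ (h.nQ (h.nY1
    (mul_mem (mul_mem (inv_mem (le_norm_self L h.wL)) (mul_mem (le_norm_self L (h.eL _)) a)) (le_norm_self L h.wL)) (of_fix (by
      calc _ = w⁻¹ * (e (ψ 1) * n * (w * z 1 * w⁻¹) * (e (ψ 1) * n)⁻¹) * w := by group
        _ = _ := by rw [h.wz, j, mul_one, h.aa, h.z0, one_mul, ← h.wz]; group))))
  obtain ⟨d, m⟩ := h.mZ.1 (conj_mem_of_norm l (rg_mem z c))
  have : z (ψ c + ψ 1 * c) * b c = z 0 * b d := by rw [← j, h.z0, ← h.wz, ← h.wz, m]; group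
  linear_combination (h.zb_inj this).1 - h.aa (ψ 1 * c)

end R0

namespace R1
variable (h : R1 L U Y Q Y2 P L2 z b e w y₀ c₀ s₀) (f : Fu L t (z 1))
include h f

theorem b2a : ∃ x ∈ 𝐍 U ⊓ 𝐂 (Rg z), x * t * x⁻¹ = t * z 1 := by
  obtain ⟨g, n, a⟩ := h.b1 f
  obtain ⟨H, I, φ, r, hH, -, k⟩ := h.act n (h.nQ (h.gY f.toHy a (h.UZ n)))
  have inj : ∀ c d, H c = H d → c = d := fun c d i => h.zinj' (conj_inj g (by simpa [hH] using congrArg z i))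
  have H0 : H 0 = 0 := h.zinj (by rw [← hH, h.z0]; simp)
  have H1 : H 1 ≠ 0 := fun i => one_ne_zero (inj _ _ (i.trans H0.symm))
  by_cases q : ∀ c : F, c = 0 ∨ c = 1
  · refine ⟨g, ⟨n, cent_rg.2 fun c => of_fix ?_⟩, a⟩
    rcases q c with rfl | rfl
    · rw [hH, H0]
    · rw [hH, (q (H 1)).resolve_left H1]
  push Not at q
  obtain ⟨l, l0, l1⟩ := q
  have r1 : r 1 ≠ 0 := left_ne_zero_of_mul (k 1 1 ▸ (mul_one (1 : F)).symm ▸ H1)
  have s : ∀ c, H (l * c) = r l / r 1 * H c := fun c => by rw [k, ← one_mul c, k, one_mul]; field_simp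
  generalize r l / r 1 = σ at s
  have σ0 : σ ≠ 0 := fun i => l0 (inj _ _ (by simpa [i, H0] using s 1))
  have σ1 : 1 + σ ≠ 0 := fun i => l1 (inj _ _ (by rw [← mul_one l, s]; linear_combination H 1 * i - h.aa (H 1)))
  obtain ⟨u, u1, u2, -⟩ := h.tor l 1 l0 one_ne_zero
  obtain ⟨v, v1, v2, -⟩ := h.tor σ⁻¹ 1 (inv_ne_zero σ0) one_ne_zero
  obtain ⟨y, y1, y2, -⟩ := h.tor (σ⁻¹ * (1 + σ))⁻¹ 1 (inv_ne_zero (mul_ne_zero (inv_ne_zero σ0) σ1)) one_ne_zero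
  have su : ∀ c, ∃ d, H d = c := fun c => by
    obtain ⟨d, i⟩ := h.mZ.1 (conj_mem_of_norm' (h.UZ n) (rg_mem z c))
    exact ⟨d, h.zinj' (by rw [← hH, i]; group)⟩
  have cz : ∀ c, g * u * g⁻¹ * z c * (g * u * g⁻¹)⁻¹ = z (σ * c) := fun c => by
    obtain ⟨d, rfl⟩ := su c
    rw [← s, ← hH, ← hH, ← mul_one l, ← u2]; group
  have ct : g * u * g⁻¹ * t * (g * u * g⁻¹)⁻¹ = t * z (1 + σ) := by
    have : g * u * g⁻¹ * (t * z 1) * (g * u * g⁻¹)⁻¹ = t * z 1 := by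
      rw [← a]
      calc _ = g * (u * t * u⁻¹) * g⁻¹ := by group
        _ = _ := by rw [fix_of (f.Lt u1.1)]
    rw [← conj_mul, cz, mul_one] at this
    rw [h.za, ← mul_assoc, ← this, mul_assoc _ (z σ), h.zz, mul_one]
  have m : v * (g * u * g⁻¹) ∈ 𝐍 U ⊓ 𝐂 (Rg z) := mem_inf.2 ⟨mul_mem v1.2 (mul_mem (mul_mem n u1.2) (inv_mem n)), cent_rg.2 fun c => of_fix (by
    rw [mul_inv_rev, mul_assoc v, ← mul_assoc, mul_assoc v, cz, v2, mul_one, inv_mul_cancel_left₀ σ0])⟩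
  refine ⟨y * (v * (g * u * g⁻¹)) * y⁻¹, conj_mem_of_norm (zp_norm.1 (norm_inf (zp_norm.2 (le_norm_self _ y1.2))
    (norm_cent (zp_norm.2 (h.UZ y1.2))))) m, ?_⟩
  rw [tr_cj (tr_mul (u := 1) (by rw [mul_one, fix_of (f.Lt v1.1)]) ct) (f.Lt y1.1), one_mul, v2, y2, mul_one, mul_one,
    inv_mul_cancel₀ (mul_ne_zero (inv_ne_zero σ0) σ1)]

theorem b2b : ∃ x ∈ 𝐍 U ⊓ 𝐂 (Rg z), x * t * x⁻¹ = t * z 1 ∧ ∃ φ : F → F, ∀ c, x * b c * x⁻¹ = z (φ c) * b c := by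
  obtain ⟨g, n, a⟩ := h.b2a f
  obtain ⟨H, I, φ, r, hH, hI, k⟩ := h.act n.1 (h.nQ (h.gY f.toHy a (h.UZ n.1)))
  have s : ∀ c, r 1 * I c = c := fun c => h.zinj' (by rw [← k, ← hH, one_mul, cfix n.2 (rg_mem z c)])
  have r1 : r 1 ≠ 0 := left_ne_zero_of_mul (s 1 ▸ one_ne_zero)
  obtain ⟨v, v1, v2, v3, -⟩ := h.tor (r 1)⁻¹ (r 1) (inv_ne_zero r1) r1
  simp only [inv_mul_cancel₀ r1, one_mul] at v2
  refine ⟨v * g, mul_mem ⟨v1.2, cent_rg.2 fun c => of_fix (v2 c)⟩ n, ?_, φ, fun c => ?_⟩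
  · rw [tr_mul (u := 1) (by rw [mul_one, fix_of (f.Lt v1.1)]) a, one_mul, v2]
  · rw [mul_inv_rev, mul_assoc v, ← mul_assoc, mul_assoc v, hI, ← conj_mul, v2, v3, s]

theorem b2 : ∃ x ∈ 𝐂 (Rg z ⊔ Rg b), x * t * x⁻¹ = t * z 1 := by
  obtain ⟨x, n, a, φ, k⟩ := h.b2b f
  have ad : ∀ c d, φ (c + d) = φ c + φ d := fun c d =>
    (h.zb_inj (by rw [← k, h.ba, ← conj_mul, k, k, h.zb_mul, h.ba])).1
  have s : ∀ m, m ≠ 0 → ∀ c, φ c + φ (m * c) = (φ 1 + φ m) * c := fun m m0 c => by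
    obtain ⟨v, v1, v2, v3, -⟩ := h.tor m m⁻¹ m0 (inv_ne_zero m0)
    simp only [mul_inv_cancel₀ m0, one_mul] at v2
    have i := tr_cj a (f.Lt v1.1)
    rw [v2] at i
    have vz : v ∈ 𝐂 (Rg z) := cent_rg.2 fun c => of_fix (v2 c)
    have := h.lin (f.nA (mem_cent1.2 (tr_inv a i))) (mul_mem (inv_mem (mem_inf.1 n).2) (mul_mem (mul_mem vz n.2) (inv_mem vz)))
      (ψ := fun c => φ c + φ (m * c)) (fun c => by
        have j : v⁻¹ * b c * v = b (m * c) := by rw [← inv_mul_cancel_left₀ m0 c, ← v3, mul_inv_cancel_left₀ m0]; group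
        have l : x⁻¹ * b c * x = z (φ c) * b c := by
          have : x * (z (φ c) * b c) * x⁻¹ = b c := by rw [← conj_mul, k, cfix n.2 (rg_mem z _), ← mul_assoc, h.zz, one_mul]
          calc _ = x⁻¹ * (x * (z (φ c) * b c) * x⁻¹) * x := by rw [this]
            _ = _ := by group
        calc _ = x⁻¹ * (v * (x * (v⁻¹ * b c * v) * x⁻¹) * v⁻¹) * x⁻¹⁻¹ := by group
          _ = _ := by
            rw [j, k, ← conj_mul (b := v), v2, v3, inv_mul_cancel_left₀ m0, ← conj_mul, cfix (inv_mem (mem_inf.1 n).2) (rg_mem z _), inv_inv, l,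
              ← mul_assoc, ← h.za, add_comm]) c
    simpa using this
  have li : ∀ m, φ m = φ 1 * m := fun m => by
    by_cases m0 : m = 0
    · subst m0; simpa using ad 0 0
    by_cases m1 : m + 1 = 0
    · rw [show m = 1 by linear_combination m1 - h.ch, mul_one]
    have i := s m m0 (m + 1)
    have j := s (m + 1) m1 m
    rw [mul_comm (m + 1) m, ad m 1] at j
    rw [ad m 1] at i
    linear_combination j - i
  refine ⟨e (φ 1) * x, h.cV.2 ⟨mul_mem (h.Qz (h.eQ _)) n.2, fun c => of_fix ?_⟩, ?_⟩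
  · rw [mul_inv_rev, mul_assoc (e _), ← mul_assoc, mul_assoc (e _), k, ← conj_mul, h.ebc, fix_of (h.ez _ _), li c, ← mul_assoc,
      h.zz, one_mul]
  · rw [tr_mul (u := 1) (by rw [mul_one, fix_of (f.Lt (h.eL _))]) a, one_mul, fix_of (h.ez _ _)]

end R1
end CF.Rd
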