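/-
Long root structure: the doubling of the root elements.
-/
import Cfsg.Agent.Rd.B5
set_option autoImplicit false
set_option linter.unusedSectionVars false

namespace CF.Rd
open Subgroup Cfsg CF.BG CF.Sig CF.Ab2
open scoped commutatorElement

variable {G : Type*} [Group G] [Finite G] {F : Type*} [Field F] {L U Y Q Y2 P L2 H K R V : Subgroup G} {z b e : F → G}
  {w y₀ c₀ s₀ g x y n t q u v l i u₀ v₀ : G} {c d k : F} {j : G → G}

theorem H2.inv_dec (f : H2 L t) (l : V ≤ L) (s : ∀ v ∈ V, v * v = 1) (c : 𝐍 L ⊓ 𝐂 R ≤ 𝐂 L ⊔ V) (a : g * t = t * g) (b : g ∈ 𝐂 R)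
    (xo : x ∈ 𝐂 (Ot L t)) (xt : x * t * x⁻¹ = t * u) (u1 : u ≠ 1) (xv : x ∈ 𝐂 V) (k : x * g * x⁻¹ = g⁻¹) : g ∈ V := by
  obtain ⟨o, m, o2, i, ii, oi, rfl, v, n, r⟩ := f.dec l s c a b
  have p : o * i * (o * i) = o * o := by rw [mul_assoc, ← mul_assoc i, ← oi, mul_assoc o i, ii, mul_one]
  have : o = 1 := eo_one o2 (eo_one (o2.mul o2 rfl) (by
    nth_rewrite 1 [← cfix xo (mul_mem m m)]
    rw [← p, ← conj_mul, k]; group))
  subst this
  rw [one_mul] at k ⊢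
  rcases r with rfl | rfl
  · exact n
  · exact (u1 (tr_ne xt (mem_cent.1 xv v n).symm (of_fix (k.trans (inv_sq ii))))).elim

theorem sq_tw (a : i * x = x * i) (s : i * i = 1) : x * i * (x * i) = x * x := by
  rw [mul_assoc, ← mul_assoc i, a, mul_assoc x i, s, mul_one]

namespace R1
variable (h : R1 L U Y Q Y2 P L2 z b e w y₀ c₀ s₀) (J : J0 L t (z 1) j) (f : H2 L t)
  (a : ∃ a ∈ Rg z ⊔ Rg b, j (z 1) * j (b 1) = j (z 1 * b 1) * a)
include h J f a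

theorem zbm (c d : F) : j (z c) * j (b d) = j (b d) * j (z c) ∧ j (z c * b d) = j (z c) * j (b d) := by
  by_cases c0 : c = 0
  · simp [c0, h.z0, h.j1 J]
  by_cases d0 : d = 0
  · simp [d0, h.b0, h.j1 J]
  exact h.colm J f a (h.colzb c0 d0)

theorem zem (c d : F) : j (z c) * j (e d) = j (e d) * j (z c) ∧ j (z c * e d) = j (z c) * j (e d) := by
  have y := h.YL h.yY
  rw [← fix_of (h.yz h.yY c), ← h.yb, conj_mul, J.cj _ y, J.cj _ y, J.cj _ y, conj_mul, conj_mul, (h.zbm J f a c d).2,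
    (h.zbm J f a c d).1]
  exact ⟨rfl, rfl⟩

theorem ejb (c d : F) : e c * j (b d) * (e c)⁻¹ = j (z (c * d)) * j (b d) := by
  rw [← J.cj _ (h.eL c), h.ebc, (h.zbm J f a _ _).2]

theorem bje (c d : F) : b d * j (e c) * (b d)⁻¹ = j (z (c * d)) * j (e c) := by
  rw [← J.cj _ (h.bL d), h.bec, (h.zem J f a _ _).2]

theorem addz (c d : F) : j (z (c + d)) = j (z c) * j (z d) := mul_right_cancel (b := j (b 1)) (by
  have := h.ejb J f a (d + c) 1
  rw [h.ea, mul_inv_rev, mul_assoc (e d), ← mul_assoc, mul_assoc (e d), h.ejb J f a, ← conj_mul, h.ejb J f a,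
    fix_of (J.cen (h.eL d) (h.ez _ _)), mul_one, mul_one, mul_one, add_comm] at this
  rw [← this, mul_assoc])

theorem addb (c d : F) : j (b (c + d)) = j (b c) * j (b d) := by
  simp only [← h.wz, J.cj _ h.wL, h.addz J f a, conj_mul]

theorem lin (c d c' d' : F) : j (z (c + c') * b (d + d')) = j (z c * b d) * j (z c' * b d') := by
  simp only [(h.zbm J f a _ _).2, h.addz J f a, h.addb J f a, mul_assoc]
  rw [← mul_assoc (j (z c')), (h.zbm J f a c' d).1, mul_assoc]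

theorem mvl (m : g ∈ L) (k : Mv L (z 1) (b 1) u v g) : ∃ i, i * i = 1 ∧ i * j u = j u * i ∧ i * j v = j v * i ∧
    g * j u * g⁻¹ = j u * i ∧ g * j v * g⁻¹ = j v := by
  obtain ⟨k, r | ⟨x, r, p, q⟩⟩ := k
  · exact ⟨1, by simp, by simp, by simp, by rw [fix_of (J.cen m r), mul_one], fix_of (J.cen m k)⟩
  refine ⟨j x, h.sq J f a x, (h.colm J f a p).1, (h.colm J f a q).1, ?_, fix_of (J.cen m k)⟩
  rw [← J.cj g m, r, ← (h.colm J f a p).1, ← (h.colm J f a p).2]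
  obtain ⟨l, -, rfl, rfl⟩ := p
  rw [conj_mul, conj_mul, h.bz]

theorem sym : j (z 1) * j s₀ = j s₀ * j (z 1) := by
  have sL : s₀ ∈ L := by obtain ⟨l, m, rfl⟩ := h.sD; exact mul_mem (mul_mem m (h.zL 1)) (inv_mem m)
  have ss : s₀ * s₀ = 1 := by obtain ⟨l, m, rfl⟩ := h.sD; rw [conj_mul, h.zz]; simp
  have c1 : Commute (j (z 1)) s₀ := (J.cen sL h.sz).symm
  have c2 : Commute (j s₀) (z 1) := (J.cen (h.zL 1) h.sz.symm).symm
  have c3 : Commute (j (z 1)) (z 1) := (J.cen (h.zL 1) rfl).symm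
  have c4 : Commute (j s₀) s₀ := (J.cen sL rfl).symm
  have r := tr_mul J.xt (J.tj f.toHy h.sD)
  rw [fix_of c1] at r
  have r := tr_sq r ((c3.mul_right c1).mul_left (c2.mul_right c4)) (by rw [sq_tw h.sz ss, h.zz])
  have m := h.sy _ (f.nA (mem_cent1.2 r)) fun g m k => (of_fix (by
    rw [← conj_mul, ← conj_mul (a := j _)]
    rcases k with k | k
    · obtain ⟨i, i1, i2, i3, i4, i5⟩ := h.mvl J f a m k
      rw [i4, i5, mul_assoc _ i, i3, ← mul_assoc _ _ i, sq_tw (Commute.mul_right i2 i3) i1]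
    · obtain ⟨i, i1, i2, i3, i4, i5⟩ := h.mvl J f a m k
      rw [i4, i5, ← mul_assoc _ _ i, sq_tw (Commute.mul_right i3 i2) i1])).symm
  have := mem_bot.1 (f.inv_dec (V := ⊥) (R := L) bot_le (by simp) (inf_le_right.trans le_sup_left) r m J.xo J.xt h.z1
    (by simp [cent_bot]) (by simp only [mul_inv_rev, inv_sq (h.sq J f a _), ← mul_assoc, h.sq J f a, one_mul]))
  rw [← inv_sq this, mul_inv_rev, inv_sq (h.sq J f a _), inv_sq (h.sq J f a _)]

theorem spe1 : ∃ k, ⁅j (e 1), j (b 1)⁆ = j (z 1) * z k := by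
  have s := h.sq J f a
  have ze : Commute (j (z 1)) (j (e 1)) := (h.zem J f a 1 1).1
  have zb : Commute (j (z 1)) (j (b 1)) := (h.zbm J f a 1 1).1
  have qz : ∀ q ∈ Q, ∀ c, q * j (z c) = j (z c) * q := fun q m c => J.cen (h.QL m) (h.qz m c)
  have ce : Cl L (z 1) (e 1) := h.yb 1 ▸ (h.clV (mem_sup_right (rg_mem b 1)) h.bne).cj (h.YL h.yY)
  have e1 : e 1 ≠ 1 := fun i => h.ncl (i ▸ ce)
  have xz : ∀ v ∈ Q, j v ∈ 𝐂 (Rg z) := fun v m => cent_rg.2 fun c => (J.cen (h.zL c) (h.qz m c).symm).symm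
  have i1 : j (e 1) * b 1 * (j (e 1))⁻¹ = b 1 * j (z 1) := by
    have := h.bje J f a 1 1
    rw [mul_one, inv_sq (h.bb 1)] at this
    calc _ = b 1 * b 1 * j (e 1) * b 1 * (j (e 1))⁻¹ := by rw [h.bb, one_mul]
      _ = _ := by rw [mul_assoc (b 1) (b 1), mul_assoc (b 1), this]; group
  have i2 : j (b 1) * e 1 * (j (b 1))⁻¹ = e 1 * j (z 1) := by
    have := h.ejb J f a 1 1
    rw [mul_one, inv_sq (h.ee 1)] at this
    calc _ = e 1 * e 1 * j (b 1) * e 1 * (j (b 1))⁻¹ := by rw [h.ee, one_mul]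
      _ = _ := by rw [mul_assoc (e 1) (e 1), mul_assoc (e 1), this]; group
  have r := tr_mul (J.tj f.toHy ce) (h.tV J f.toHy (mem_sup_right (rg_mem b 1)))
  rw [i1] at r
  have r2 := tr_mul r r
  have i3 : j (e 1) * j (b 1) * (e 1 * (b 1 * j (z 1))) * (j (e 1) * j (b 1))⁻¹ = e 1 * (b 1 * j (z 1)) := by
    rw [mul_inv_rev, mul_assoc (j (e 1)), ← mul_assoc, mul_assoc (j (e 1)), ← conj_mul (b := j (b 1)), ← conj_mul (b := j (b 1)), i2,
      fix_of (J.cen (h.bL 1) rfl).symm, fix_of zb.symm, ← conj_mul, ← conj_mul, ← conj_mul, i1, fix_of (J.cen (h.eL 1) rfl).symm,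
      fix_of ze.symm, mul_assoc (b 1), s, mul_one, mul_assoc, qz _ (h.bQ 1)]
  rw [i3, ← mul_assoc (e 1), sq_tw (qz _ (mul_mem (h.eQ 1) (h.bQ 1)) 1).symm (s _)] at r2
  have i4 : e 1 * b 1 * (e 1 * b 1) = z 1 := by
    rw [← mul_one 1, ← h.eb, commutatorElement_def, inv_sq (h.ee _), inv_sq (h.bb _), mul_one, ← mul_assoc]
  rw [i4] at r2
  have gz := mul_mem (xz _ (h.eQ 1)) (xz _ (h.bQ 1))
  have r3 := tr_mul r2 J.xt
  rw [cfix (mul_mem gz gz) (rg_mem z 1), h.zz, mul_one] at r3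
  obtain ⟨k, m⟩ := h.mZ.1 (f.inv_dec h.zL' h.ZZ h.cQ (of_fix r3) (mem_cent.2 fun q m => of_fix (by
    obtain ⟨c, i⟩ := h.mZ.1 (h.QQ (commutator_mem_commutator m (h.eQ 1)))
    obtain ⟨d, l⟩ := h.mZ.1 (h.QQ (commutator_mem_commutator m (h.bQ 1)))
    have : q * (j (e 1) * j (b 1)) * q⁻¹ = j (e 1) * j (b 1) * j (z (c + d)) := by
      rw [← conj_mul, ← J.cj q (h.QL m), ← J.cj q (h.QL m), cj_eq q, cj_eq q, ← i, ← l, (h.zem J f a _ _).2, (h.zbm J f a _ _).2,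
        (h.zem J f a _ _).1, mul_assoc, mul_assoc, ← mul_assoc (j (z c)), ← h.addz J f a, (h.zbm J f a _ _).1]
    rw [← conj_mul, ← conj_mul, this, fix_of (qz q m 1),
      sq_tw (Commute.mul_right (h.zem J f a _ _).1 (h.zbm J f a _ _).1) (s _)])) (J.oj _) (J.tj f.toHy ce) e1 (xz _ (h.eQ 1)) (by
      simp only [mul_inv_rev, inv_sq (s _), ← mul_assoc, s, one_mul]
      rw [mul_assoc _ (j (z 1)), ze.eq, ← mul_assoc, mul_assoc (j (z 1)), mul_assoc (j (z 1)), mul_assoc (j (z 1))]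
      exact ((zb.mul_right ze).mul_right zb).mul_right ze |>.symm.eq))
  refine ⟨k, ?_⟩
  rw [m, (ze.mul_right zb).mul_right (ze.mul_right zb) |>.symm.eq, ← mul_assoc (j (z 1)), s, one_mul, commutatorElement_def,
    inv_sq (s _), inv_sq (s _), ← mul_assoc]

omit f a in
theorem spe (s : ⁅j (e 1), j (b 1)⁆ = j (z 1) * z k) (c d : F) : ⁅j (e c), j (b d)⁆ = j (z (c * d)) * z (k * (c * d)) := by
  by_cases c0 : c = 0
  · simp [c0, h.z0, h.e0, h.j1 J]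
  by_cases d0 : d = 0
  · simp [d0, h.z0, h.b0, h.j1 J]
  obtain ⟨g, m, i1, i2, i3⟩ := h.tor c d c0 d0
  have := congrArg (fun x => g * x * g⁻¹) s
  simpa only [cj_comm', ← conj_mul (b := g), ← J.cj g m.1, i1, i2, i3, mul_one, mul_comm k] using this

theorem can (nt : n * t = t * n) (m : n ∈ 𝐍 (Rg z)) (c : F) : ∃ d, n * j (z c) * n⁻¹ = j (n * z c * n⁻¹) * z d := by
  by_cases c0 : c = 0
  · exact ⟨0, by simp [c0, h.z0, h.j1 J]⟩
  obtain ⟨d, i⟩ := h.mZ.1 (conj_mem_of_norm m (rg_mem z c))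
  have x := h.xZ J f.toHy c
  have r := tr_cj (J.tj f.toHy (h.clz c0)) nt
  have r' := h.tV J f.toHy (mem_sup_left (rg_mem z d))
  rw [← i] at r ⊢
  obtain ⟨v, p, k | k⟩ := f.dif h.zL' h.ZZ h.cQ (h.xZ J f.toHy d) (g' := n * j (z c) * n⁻¹)
    ⟨⟨⟨conj_mem_of_norm (norm_le_norm_cent _ (h.nQ (h.nY' (f.nA (mem_cent1.2 nt)) m))) x.1.1.1,
      conj_mem_of_norm (norm_le_norm_cent _ m) x.1.1.2⟩, conj_mem_of_norm (norm_le_norm_cent _
        (h.gO f (c := 0) (by rw [h.z0, mul_one, fix_of nt]) m)) x.1.2⟩, _, rg_mem z d, r⟩ (J.e2 _) ((J.e2 _).conj n) (r'.trans r.symm)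
  · obtain ⟨c', rfl⟩ := h.mZ.1 p
    exact ⟨c', k⟩
  · have s : j (z d) * (t * v) * (j (z d) * (t * v)) = 1 := by rw [← k, conj_mul, h.sq J f a]; simp
    have := tr_ne r' (mem_cent.1 (h.xZ J f.toHy d).1.1.2 v p).symm (by
      rw [← inv_sq s, mul_inv_rev, inv_sq (h.sq J f a _), inv_sq (h.ZA f.toHy p (.inr rfl))])
    exact (c0 (h.zinj (by simpa [this] using i.symm))).elim

omit J f a in
theorem jd (f : Fu L t (z 1)) : ∃ j k, Jd L t z b e s₀ j k := by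
  obtain ⟨j, J, a⟩ := h.exJ1 f
  have g := h.h2 f
  obtain ⟨k, s⟩ := h.spe1 J g a
  exact ⟨j, k, g.r2, h.j1 J, J.j0, h.sq J g a, fun v m => by rw [← J.tj g.toHy m, inv_sq (h.sq J g a v)], J.cj,
    fun o i p q v => mem_cent.1 (J.oj v) o (mem_ot i p q), fun _ _ _ _ => h.lin J g a _ _ _ _, h.sym J g a, h.spe J s,
    fun _ => h.can J g a⟩

end R1

theorem Jd.nG (d : Jd L t z b e s₀ j k) (h : R1 L U Y Q Y2 P L2 z b e w y₀ c₀ s₀) (f : Hy L t) : 𝐂₁ t ≤ 𝐍 (L ⊔ Rg j) :=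
  fun n m => mem_norm_of_cj_le (cj_le_iff.2 (sup_le (fun x i => mem_cj_inv.2 (mem_sup_left (conj_mem_of_norm (f.nA m) i)))
    (rg_le fun v => mem_cj_inv.2 (by
      by_cases c : Cl L (z 1) v
      swap
      · simp [d.j0 v c]
      obtain ⟨l, i, rfl⟩ := c
      obtain ⟨a, p, s, q, r⟩ := h.US.syl_frattini (normalIn_norm L) (mul_mem (f.nA m) (le_norm_self L i))
      obtain ⟨c, k⟩ := d.can s (mem_cent1.1 (by
        rw [eq_inv_mul_of_mul_eq r]
        exact mul_mem (inv_mem (mem_cent1.2 (f.Lt p))) (mul_mem m (mem_cent1.2 (f.Lt i))))) (h.UZ q.2) 1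
      rw [d.cj l i, show n * (l * j (z 1) * l⁻¹) * n⁻¹ = n * l * j (z 1) * (n * l)⁻¹ by group, ← r,
        show a * s * j (z 1) * (a * s)⁻¹ = a * (s * j (z 1) * s⁻¹) * a⁻¹ by group, k]
      exact mul_mem (mul_mem (mem_sup_left p) (mul_mem (mem_sup_right (subset_closure ⟨_, rfl⟩)) (mem_sup_left (h.zL c))))
        (mem_sup_left (inv_mem p))))))

end CF.Rd
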